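import Groth.Agent.DeltaFFLib.Base
import Groth.Agent.DepthTwoLib.Basic
import Groth.Agent.RefHullLib.Generic
import Groth.Agent.QReg16Lib.BaseChange
import Groth.Agent.S5802
import Groth.Agent.ParaFLib.Depth
import Groth.Agent.CommAlgDim.PunctSections
import Groth.Prelude.Def_EGA4b

/-!
# Sections of powers of a regularly generated prime over an open set
-/

set_option autoImplicit false
set_option backward.isDefEq.respectTransparency false
set_option backward.isDefEq.respectTransparency.types false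
set_option linter.style.haveILetI false
set_option maxHeartbeats 800000

universe u

open AlgebraicGeometry CategoryTheory Opposite

namespace LefQuotLib

open DepthTwoLib

variable {A : Type u} [CommRing A] {J : Ideal A}

theorem D2_pi {ι : Type} {M : Type u} [AddCommGroup M] [Module A M] (h : D2 J M) : D2 J (ι → M) := by
  refine ⟨fun m hm => funext fun i => h.1 _ fun j hj => congrFun (hm j hj) i, fun φ => ?_⟩
  choose m hm using fun i => h.2 (LinearMap.proj i ∘ₗ φ)
  exact ⟨m, fun j => funext fun i => hm i j⟩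

theorem D2_of_quotient {I : Ideal A} (h : D2 (B := A ⧸ I) (J.map (Ideal.Quotient.mk I)) (A ⧸ I)) :
    D2 J (A ⧸ I) := by
  classical
  have h1 : T1 J (A ⧸ I) := fun m hm => h.1 m fun j hj => by
    obtain ⟨j₀, hj₀, rfl⟩ := (Ideal.mem_map_iff_of_surjective _ Ideal.Quotient.mk_surjective).1 hj
    exact hm j₀ hj₀
  refine ⟨h1, fun φ => ?_⟩
  have hker : ∀ x : J, Ideal.Quotient.mk I (x : A) = 0 → φ x = 0 := fun x hx => h1 _ fun j hj => by
    rw [← map_smul, show j • x = (x : A) • (⟨j, hj⟩ : J) from Subtype.ext (mul_comm _ _), map_smul,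
      Algebra.smul_def, Ideal.Quotient.algebraMap_eq, hx, zero_mul]
  have hch : ∀ y : J.map (Ideal.Quotient.mk I), ∃ x : J, Ideal.Quotient.mk I (x : A) = y := fun y => by
    obtain ⟨x, hx, hxy⟩ := (Ideal.mem_map_iff_of_surjective _ Ideal.Quotient.mk_surjective).1 y.2
    exact ⟨⟨x, hx⟩, hxy⟩
  choose σ hσ using hch
  have hind : ∀ (y : J.map (Ideal.Quotient.mk I)) (x : J), Ideal.Quotient.mk I (x : A) = y → φ (σ y) = φ x :=
    fun y x hx => by
      rw [← sub_eq_zero, ← map_sub]
      exact hker _ (by rw [Submodule.coe_sub, map_sub, hσ, hx, sub_self])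
  let ψ : (J.map (Ideal.Quotient.mk I) : Ideal (A ⧸ I)) →ₗ[A ⧸ I] (A ⧸ I) :=
    { toFun := fun y => φ (σ y)
      map_add' := fun a b => by
        rw [← map_add]
        exact hind _ _ (by rw [Submodule.coe_add, map_add, hσ, hσ]; rfl)
      map_smul' := fun c a => by
        obtain ⟨c, rfl⟩ := Ideal.Quotient.mk_surjective c
        rw [hind _ (c • σ a) (by rw [SetLike.val_smul, smul_eq_mul, map_mul, hσ]; rfl), map_smul]
        rfl }
  obtain ⟨m, hm⟩ := h.2 ψ
  refine ⟨m, fun j => ?_⟩
  have h2 := hm ⟨Ideal.Quotient.mk I (j : A), Ideal.mem_map_of_mem _ j.2⟩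
  rw [show ψ _ = φ (σ _) from rfl, hind _ j rfl] at h2
  exact h2

theorem D2_to_quotient {I : Ideal A} (h : D2 J (A ⧸ I)) :
    D2 (B := A ⧸ I) (J.map (Ideal.Quotient.mk I)) (A ⧸ I) := by
  refine ⟨fun m hm => h.1 m fun j hj => hm _ (Ideal.mem_map_of_mem _ hj), fun ψ => ?_⟩
  let φ : J →ₗ[A] (A ⧸ I) :=
    { toFun := fun j => ψ ⟨Ideal.Quotient.mk I (j : A), Ideal.mem_map_of_mem _ j.2⟩
      map_add' := fun a b => by rw [← map_add]; rfl
      map_smul' := fun c a => by
        show ψ _ = c • ψ _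
        rw [show c • ψ ⟨Ideal.Quotient.mk I (a : A), Ideal.mem_map_of_mem _ a.2⟩ =
          Ideal.Quotient.mk I c • ψ ⟨Ideal.Quotient.mk I (a : A), Ideal.mem_map_of_mem _ a.2⟩ from rfl, ← map_smul]
        rfl }
  obtain ⟨m, hm⟩ := h.2 φ
  refine ⟨m, fun y => ?_⟩
  obtain ⟨x, hx, hxy⟩ := (Ideal.mem_map_iff_of_surjective _ Ideal.Quotient.mk_surjective).1 y.2
  have h2 := hm ⟨x, hx⟩
  change ψ _ = x • m at h2
  rw [show y = ⟨Ideal.Quotient.mk I x, Ideal.mem_map_of_mem _ hx⟩ from Subtype.ext hxy.symm, h2]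
  rfl

theorem D2_pow {r : ℕ} (f : Fin r → A) (hf : CAlgX.IsQuasiRegular f)
    (h : D2 J (A ⧸ Ideal.span (Set.range f))) : ∀ n : ℕ, D2 J (A ⧸ Ideal.span (Set.range f) ^ n)
  | 0 => by
    haveI : Subsingleton (A ⧸ Ideal.span (Set.range f) ^ 0) := Ideal.Quotient.subsingleton_iff.2 (by simp)
    exact D2.of_subsingleton
  | n + 1 => D2.extension _ _ (QReg16BC.phi_injective f hf n) (QReg16BC.phi_exact f n)
      (Submodule.factor_surjective _) (D2_pi h) (D2_pow f hf h n)

theorem height_le_one_mem_regLocus [IsDomain A] [IsIntegrallyClosed A] [IsNoetherianRing A] (x : PrimeSpectrum A)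
    (hx : x.asIdeal.height ≤ 1) : x ∈ EGA4.regLocus A := by
  show IsRegularLocalRing (Localization.AtPrime x.asIdeal)
  haveI : IsNoetherianRing (Localization.AtPrime x.asIdeal) :=
    IsLocalization.isNoetherianRing x.asIdeal.primeCompl _ inferInstance
  haveI : IsDomain (Localization.AtPrime x.asIdeal) :=
    IsLocalization.isDomain_localization x.asIdeal.primeCompl_le_nonZeroDivisors
  haveI : IsIntegrallyClosed (Localization.AtPrime x.asIdeal) :=
    isIntegrallyClosed_of_isLocalization _ x.asIdeal.primeCompl x.asIdeal.primeCompl_le_nonZeroDivisors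
  haveI : Ring.KrullDimLE 1 (Localization.AtPrime x.asIdeal) := by
    rw [Ring.krullDimLE_iff]
    rw [IsLocalization.AtPrime.ringKrullDim_eq_height x.asIdeal]
    exact_mod_cast hx
  haveI : IsPrincipalIdealRing (Localization.AtPrime x.asIdeal) := by
    refine ((tfae_of_isNoetherianRing_of_isLocalRing_of_isDomain (Localization.AtPrime x.asIdeal)).out 0 3).2 ?_
    refine ⟨inferInstance, fun P hP hP' => ?_⟩
    by_contra hne
    haveI := hP'
    have hlt := Ideal.height_strict_mono_of_isPrime (lt_of_le_of_ne (IsLocalRing.le_maximalIdeal hP'.ne_top) hne)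
    have hm : (IsLocalRing.maximalIdeal (Localization.AtPrime x.asIdeal)).height ≤ 1 := by
      have hd : ringKrullDim (Localization.AtPrime x.asIdeal) ≤ 1 := by
        rw [IsLocalization.AtPrime.ringKrullDim_eq_height x.asIdeal]; exact_mod_cast hx
      rw [← IsLocalRing.maximalIdeal_height_eq_ringKrullDim] at hd
      exact_mod_cast hd
    exact hP (Ideal.height_eq_zero_iff_eq_bot.1 (Order.lt_one_iff.1 (lt_of_lt_of_le hlt hm)))
  infer_instance

theorem two_le_height [IsDomain A] [IsNoetherianRing A] (hcat : CAlg.IsCatenary A) (J₀ p : Ideal A) [p.IsPrime]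
    (hJ₀ : ∀ q : PrimeSpectrum A, J₀ ≤ q.asIdeal → 2 ≤ q.asIdeal.height)
    (hht : p.height + J₀.height ≤ (p ⊔ J₀).height) (x : PrimeSpectrum A) (hpx : p ≤ x.asIdeal)
    (hJx : J₀ ≤ x.asIdeal) :
    2 ≤ Order.height (⟨x, hpx⟩ : Set.Ici (⟨p, inferInstance⟩ : PrimeSpectrum A)) := by
  set P : PrimeSpectrum A := ⟨p, inferInstance⟩
  let B := Localization.AtPrime x.asIdeal
  haveI : IsNoetherianRing B := IsLocalization.isNoetherianRing x.asIdeal.primeCompl _ inferInstance
  haveI : IsDomain B := IsLocalization.isDomain_localization x.asIdeal.primeCompl_le_nonZeroDivisors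
  have hdisj : Disjoint (x.asIdeal.primeCompl : Set A) p := Set.disjoint_left.2 fun a ha hap => ha (hpx hap)
  let S := p.map (algebraMap A B)
  haveI : S.IsPrime := IsLocalization.isPrime_of_isPrime_disjoint x.asIdeal.primeCompl B _ ‹_› hdisj
  have h3 := CatLib.ringKrullDim_quotient_add_height_of_domain
    (CatLib.isCatenary_localization x.asIdeal.primeCompl B hcat) S
  have hSc : S.comap (algebraMap A B) = p :=
    IsLocalization.comap_map_of_isPrime_disjoint x.asIdeal.primeCompl B (I := p) ‹_› hdisj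
  rw [← IsLocalization.height_under x.asIdeal.primeCompl S, Ideal.under_def, hSc,
    IsLocalization.AtPrime.ringKrullDim_eq_height x.asIdeal B] at h3
  have h4 := DeltaFFLib.dim_quotient_le_height_Ici P x hpx
  have h5 : (x.asIdeal.height : WithBot ℕ∞) ≤
      ((Order.height (⟨x, hpx⟩ : Set.Ici P) + p.height : ℕ∞) : WithBot ℕ∞) := by
    rw [← h3, WithBot.coe_add]
    exact add_le_add h4 le_rfl
  have h6 : (2 : ℕ∞) + p.height ≤ x.asIdeal.height := by
    refine le_trans ?_ (hht.trans (Ideal.height_mono (sup_le hpx hJx)))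
    rw [add_comm]
    refine add_le_add le_rfl ?_
    rw [Ideal.height_eq_inf_minimalPrimes]
    refine le_iInf₂ fun q hq => ?_
    exact hJ₀ ⟨q, hq.1.1⟩ hq.1.2
  exact (ENat.add_le_add_iff_right (Ideal.height_ne_top (Ideal.IsPrime.ne_top ‹p.IsPrime›))).1
    (h6.trans (WithBot.coe_le_coe.1 h5))

/-- The bijectivity statement, with `J` cutting out the complement. -/
theorem bijective_sections [IsDomain A] [IsIntegrallyClosed A] (hA : EGA4.IsExcellent A)
    (J₀ : Ideal A) (hJ : ∀ x : PrimeSpectrum A, J₀ ≤ x.asIdeal ↔ x ∉ EGA4.regLocus A)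
    (p : Ideal A) [p.IsPrime] (rs : List A) (hrs : RingTheory.Sequence.IsRegular A rs)
    (hp : Ideal.ofList rs = p) (hnorm : IsIntegrallyClosed (A ⧸ p))
    (hht : p.height + J₀.height ≤ (p ⊔ J₀).height)
    (U : (Spec (CommRingCat.of A)).Opens)
    (hUreg : ∀ x : PrimeSpectrum A, p ≤ x.asIdeal → x ∈ EGA4.regLocus A → x ∈ U.1)
    (m : ℕ) :
    Function.Bijective ((Spec (CommRingCat.of (A ⧸ p ^ m))).presheaf.map
      (homOfLE (le_top : Spec.map (CommRingCat.ofHom (Ideal.Quotient.mk (p ^ m))) ⁻¹ᵁ U ≤ ⊤)).op).hom := by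
  haveI : IsNoetherianRing A := hA.1
  have hcat : CAlg.IsCatenary A := hA.2.1.2 A inferInstance
  let J : Ideal A := PrimeSpectrum.vanishingIdeal U.1ᶜ
  have hzl : PrimeSpectrum.zeroLocus (J : Set A) = U.1ᶜ := by
    rw [PrimeSpectrum.zeroLocus_vanishingIdeal_eq_closure]
    exact U.isOpen.isClosed_compl.closure_eq
  have hmem : ∀ x : PrimeSpectrum A, J ≤ x.asIdeal ↔ x ∉ U.1 := fun x => by
    rw [← Set.mem_compl_iff, ← hzl, PrimeSpectrum.mem_zeroLocus, SetLike.coe_subset_coe]
  -- depth two modulo `p`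
  haveI := hnorm
  have hD : D2 (B := A ⧸ p) (J.map (Ideal.Quotient.mk p)) (A ⧸ p) := by
    refine two_le_iff.1 ((CommAlgDim.le_idealDepth_iff _ 2).2
      ((CommAlgDim.hasSeqIn_iff_forall_localization _ 2).2 fun Q _ hQ => ?_))
    let x : PrimeSpectrum A := ⟨Q.comap (Ideal.Quotient.mk p), inferInstance⟩
    have hpx : p ≤ x.asIdeal := le_of_eq_of_le Ideal.mk_ker.symm (Ideal.comap_mono bot_le)
    have hJx : J ≤ x.asIdeal := Ideal.map_le_iff_le_comap.1 hQ
    have hxU := (hmem x).1 hJx
    have h2 := two_le_height hcat J₀ p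
      (fun q hq => by
        by_contra h
        exact (hJ q).1 hq (height_le_one_mem_regLocus q (Order.le_of_lt_add_one (by exact_mod_cast not_le.1 h))))
      hht x hpx ((hJ x).2 fun hr => hxU (hUreg x hpx hr))
    let g : Set.Ici (⟨p, inferInstance⟩ : PrimeSpectrum A) → PrimeSpectrum (A ⧸ p) := fun y =>
      ⟨y.1.asIdeal.map (Ideal.Quotient.mk p),
        Ideal.map_isPrime_of_surjective Ideal.Quotient.mk_surjective (by rw [Ideal.mk_ker]; exact y.2)⟩
    have hg' : ∀ y, (g y).asIdeal.comap (Ideal.Quotient.mk p) = y.1.asIdeal := fun y => by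
      rw [Ideal.comap_map_of_surjective _ Ideal.Quotient.mk_surjective, ← RingHom.ker_eq_comap_bot, Ideal.mk_ker]
      exact sup_eq_left.2 y.2
    have hg : StrictMono g := fun a b hab => lt_of_le_of_ne (Ideal.map_mono hab.le) fun he =>
      hab.ne (Subtype.ext (PrimeSpectrum.ext (by rw [← hg' a, ← hg' b, he])))
    have hgx : g ⟨x, hpx⟩ = ⟨Q, inferInstance⟩ :=
      PrimeSpectrum.ext (Ideal.map_comap_of_surjective _ Ideal.Quotient.mk_surjective Q)
    have hQh : (2 : ℕ∞) ≤ Q.height := by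
      refine h2.trans ((Order.height_le_height_apply_of_strictMono g hg _).trans (le_of_eq ?_))
      rw [hgx]
      exact (PrimeSpectrum.height_eq_orderHeight (⟨Q, inferInstance⟩ : PrimeSpectrum (A ⧸ p))).symm
    haveI : IsNoetherianRing (Localization.AtPrime Q) := IsLocalization.isNoetherianRing Q.primeCompl _ inferInstance
    haveI : IsDomain (Localization.AtPrime Q) :=
      IsLocalization.isDomain_localization Q.primeCompl_le_nonZeroDivisors
    haveI : IsIntegrallyClosed (Localization.AtPrime Q) :=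
      isIntegrallyClosed_of_isLocalization _ Q.primeCompl Q.primeCompl_le_nonZeroDivisors
    exact RefHullLib.two_le_depth_normal (R := Localization.AtPrime Q)
      (by rw [IsLocalization.AtPrime.ringKrullDim_eq_height Q]; exact WithBot.coe_le_coe.2 hQh)
  -- depth two modulo the power
  have hspan : Ideal.span (Set.range rs.get) = p := by
    rw [← hp, Set.range_list_get]
  have hpow : D2 J (A ⧸ p ^ m) := by
    rw [← hspan]
    refine D2_pow rs.get (Groth.Agent.S5802.result A rs.length rs.get ?_) ?_ m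
    · rw [List.ofFn_get]; exact hrs.toIsWeaklyRegular
    · rw [hspan]; exact D2_of_quotient hD
  have hseq := (CommAlgDim.le_idealDepth_iff _ 2).1 (two_le_iff.2 (D2_to_quotient hpow))
  have e : CommAlgDim.PunctSections.compl (R := CommRingCat.of (A ⧸ p ^ m)) (J.map (Ideal.Quotient.mk (p ^ m))) =
      Spec.map (CommRingCat.ofHom (Ideal.Quotient.mk (p ^ m))) ⁻¹ᵁ U := by
    refine TopologicalSpace.Opens.ext (Set.ext fun q => ?_)
    show ¬ ((J.map (Ideal.Quotient.mk (p ^ m)) : Set (A ⧸ p ^ m)) ⊆ q.asIdeal) ↔ _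
    rw [SetLike.coe_subset_coe, Ideal.map_le_iff_le_comap]
    exact (not_congr (hmem (PrimeSpectrum.comap (Ideal.Quotient.mk (p ^ m)) q))).trans not_not
  refine ParaFLib.bijective_map_congr e le_top le_top ?_
  haveI : IsNoetherianRing (CommRingCat.of (A ⧸ p ^ m)) := inferInstanceAs (IsNoetherianRing (A ⧸ p ^ m))
  have hb := CommAlgDim.PunctSections.bijective_toSec
    (M := ModuleCat.of (CommRingCat.of (A ⧸ p ^ m)) (CommRingCat.of (A ⧸ p ^ m)))
    (J.map (Ideal.Quotient.mk (p ^ m)))
    ((CommAlgDim.hasSeqIn_iff_forall_localization _ 2).1 hseq)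
  exact (Function.Bijective.of_comp_iff _ (CommAlgDim.PunctSections.bijective_toSec_top
    (ModuleCat.of (CommRingCat.of (A ⧸ p ^ m)) (CommRingCat.of (A ⧸ p ^ m))))).1 hb

end LefQuotLib
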